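import Mathlib
import Cfsg.Agent.H76.PrimeCycle
import Cfsg.Agent.H77.DoubleTransCore
import Cfsg.Agent.H32.PermModule

/-!
# Small elements in groups of degree eleven

A primitive group of degree eleven not containing the alternating group has no cycle of prime
length at most eight and no double transposition; consequences for elements of order two, three
and five.
-/

set_option autoImplicit false
set_option linter.style.haveILetI false

namespace Cfsg.Agent.H79.DegreeEleven

open Equiv Equiv.Perm MulAction

/-- Every four-subset of `ZMod 11` meets some translate of itself in an odd number of points. -/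
theorem shift_parity : ∀ b c d : ZMod 11, [(0 : ZMod 11), b, c, d].Nodup →
    ∃ k : ZMod 11, ([(0 : ZMod 11), b, c, d].filter
      fun z => decide (z + k ∈ [(0 : ZMod 11), b, c, d])).length % 2 = 1 := by
  decide +kernel

variable {α : Type*} [Fintype α] [DecidableEq α] {X : Subgroup (Perm α)}

/-- A non-`A₁₁` transitive group of degree eleven. -/
structure Small (X : Subgroup (Perm α)) : Prop where
  card_eleven : Fintype.card α = 11
  trans : IsPretransitive X α
  not_alt : ¬ alternatingGroup α ≤ X

theorem Small.prim (h : Small X) : IsPreprimitive X α := by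
  haveI := h.trans
  exact IsPreprimitive.of_prime_card (by rw [Nat.card_eq_fintype_card, h.card_eleven]; norm_num)

theorem Small.no_cycle (h : Small X) {g : Perm α} (hg : g ∈ X) (hc : g.IsCycle)
    (hp : g.support.card.Prime) : 8 < g.support.card := by
  by_contra hle
  exact h.not_alt (H76.alternatingGroup_le_of_cycle h.prim hc hp hg (by rw [h.card_eleven]; omega))

theorem Small.no_dt (h : Small X) {Q : Finset α} (hQ : H77.DoubleTrans.IsDT X Q) : False := by
  classical
  haveI := h.trans
  haveI : Fact (Nat.Prime 11) := ⟨by norm_num⟩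
  obtain ⟨a, b, c, d, hnd, hmem, hQe⟩ := id hQ
  have hdvd : 11 ∣ Nat.card X := by
    have h1 := (stabilizer X a).index_dvd_card
    rwa [index_stabilizer_of_transitive, Nat.card_eq_fintype_card, h.card_eleven] at h1
  obtain ⟨x, hx⟩ := exists_prime_orderOf_dvd_card' (G := X) 11 hdvd
  obtain ⟨C, -⟩ := H32.exists_coords_of_order (p := 11) h.card_eleven x hx
  let e : ZMod 11 ≃ α := (Equiv.addRight (C.coord.symm a)).trans C.coord
  have he : ∀ j k : ZMod 11, ((C.gen ^ k.val : X) : Perm α) (e j) = e (j + k) := by
    intro j k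
    show (C.gen ^ k.val) • C.coord (j + C.coord.symm a) = C.coord (j + k + C.coord.symm a)
    rw [C.pow_smul, ZMod.natCast_zmod_val, add_right_comm]
  have he0 : e 0 = a := by simp [e]
  have hnd' : [(0 : ZMod 11), e.symm b, e.symm c, e.symm d].Nodup := by
    have h0 := hnd.map e.symm.injective
    simpa [← he0] using h0
  set L := [(0 : ZMod 11), e.symm b, e.symm c, e.symm d] with hL
  have hQL : Q = L.toFinset.image e := by
    rw [hQe, hL]
    ext w
    simp only [Finset.mem_insert, Finset.mem_singleton, Finset.mem_image, List.mem_toFinset,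
      List.mem_cons, List.not_mem_nil, or_false]
    constructor
    · rintro (rfl | rfl | rfl | rfl)
      · exact ⟨0, Or.inl rfl, he0⟩
      all_goals exact ⟨e.symm w, by simp, e.apply_symm_apply w⟩
    · rintro ⟨u, (rfl | rfl | rfl | rfl), rfl⟩ <;> simp [he0]
  obtain ⟨k, hk⟩ := shift_parity _ _ _ hnd'
  rw [← hL] at hk
  let g : Perm α := ((C.gen ^ k.val : X) : Perm α)
  have hR := hQ.conj (C.gen ^ k.val).2
  apply h.not_alt
  refine H77.DoubleTrans.alt_of_odd_meet h.prim (by rw [h.card_eleven]; norm_num) hQ hR fun heven => ?_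
  have hset : Q ∩ Q.image g = ((L.toFinset.filter fun z => z + k ∈ L).image fun z => e (z + k)) := by
    ext w
    constructor
    · intro hw
      obtain ⟨hwQ, hwR⟩ := Finset.mem_inter.mp hw
      rw [hQL] at hwQ hwR
      obtain ⟨y, hy, rfl⟩ := Finset.mem_image.mp hwQ
      obtain ⟨u, hu, hue⟩ := Finset.mem_image.mp hwR
      obtain ⟨z, hz, rfl⟩ := Finset.mem_image.mp hu
      rw [he] at hue
      have := e.injective hue
      subst this
      exact Finset.mem_image.mpr ⟨z, Finset.mem_filter.mpr ⟨hz, List.mem_toFinset.mp hy⟩, rfl⟩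
    · intro hw
      obtain ⟨z, hz, rfl⟩ := Finset.mem_image.mp hw
      obtain ⟨hz1, hz2⟩ := Finset.mem_filter.mp hz
      rw [hQL]
      refine Finset.mem_inter.mpr ⟨Finset.mem_image_of_mem _ (List.mem_toFinset.mpr hz2), ?_⟩
      rw [← he z k]
      exact Finset.mem_image_of_mem _ (Finset.mem_image_of_mem _ hz1)
  rw [hset, Finset.card_image_of_injective _ (fun u v huv => add_right_cancel (e.injective huv)),
    ← List.toFinset_eq hnd'] at heven
  rw [Nat.even_iff] at heven
  have : ((⟨↑L, hnd'⟩ : Finset (ZMod 11)).filter fun z => z + k ∈ L).card =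
      (L.filter fun z => decide (z + k ∈ L)).length := rfl
  omega

/-- The support of an element of prime order is a union of orbits of that length. -/
theorem support_card_of_prime {g : Perm α} {p : ℕ} (hp : p.Prime) (hg : orderOf g = p) :
    ∃ m, 1 ≤ m ∧ g.cycleType = Multiset.replicate m p ∧ g.support.card = m * p := by
  obtain ⟨n, hn⟩ := cycleType_prime_order (σ := g) (hg ▸ hp)
  rw [hg] at hn
  refine ⟨n + 1, by omega, hn, ?_⟩
  rw [← sum_cycleType, hn, Multiset.sum_replicate, smul_eq_mul]

theorem sign_of_replicate {g : Perm α} {m p : ℕ} (hg : g.cycleType = Multiset.replicate m p) :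
    Equiv.Perm.sign g = (-1) ^ (m * p + m) := by
  rw [sign_of_cycleType, hg, Multiset.sum_replicate, Multiset.card_replicate, smul_eq_mul]

/-- A fixed point free prime order element of an invariant set. -/
theorem five_le_of_invariant {x : Perm α} (hx : orderOf x = 5) {S : Finset α} (hS : S.Nonempty)
    (hsub : S ⊆ x.support) (hinv : ∀ z ∈ S, x z ∈ S) : 5 ≤ S.card := by
  obtain ⟨z, hz⟩ := hS
  have h1 : ((Finset.range 5).image fun i => (x ^ i) z) ⊆ S := by
    intro w hw
    obtain ⟨i, -, rfl⟩ := Finset.mem_image.mp hw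
    clear hw
    induction i with
    | zero => simpa using hz
    | succ i ih => rw [pow_succ', Perm.mul_apply]; exact hinv _ ih
  have h2 := Finset.card_le_card h1
  rwa [Finset.card_image_of_injOn (H76.pow_apply_injOn (by norm_num) hx (mem_support.mp (hsub hz))),
    Finset.card_range] at h2

theorem dt_of_involution {g : Perm α} (hg : g ∈ X) (h2 : g ^ 2 = 1) (h4 : g.support.card = 4) :
    H77.DoubleTrans.IsDT X g.support := by
  classical
  have hgg : ∀ z, g (g z) = z := fun z => by
    rw [← Perm.mul_apply, ← pow_two, h2, Perm.one_apply]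
  obtain ⟨a, ha⟩ : g.support.Nonempty := Finset.card_pos.mp (by omega)
  have hab : g a ≠ a := mem_support.mp ha
  have hgb : g a ∈ g.support := mem_support.mpr fun h => hab (g.injective h)
  obtain ⟨c, hc⟩ : (g.support \ {a, g a}).Nonempty := by
    apply Finset.card_pos.mp
    have := Finset.le_card_sdiff ({a, g a} : Finset α) g.support
    rw [Finset.card_pair hab.symm] at this
    omega
  simp only [Finset.mem_sdiff, Finset.mem_insert, Finset.mem_singleton, not_or] at hc
  obtain ⟨hcs, hca, hcb⟩ := hc
  have hcd : g c ≠ c := mem_support.mp hcs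
  have hgd : g c ∈ g.support := mem_support.mpr fun h => hcd (g.injective h)
  have hda : g c ≠ a := fun h => hcb (by rw [← h, hgg])
  have hdb : g c ≠ g a := fun h => hca (g.injective h)
  have hnd : [a, g a, c, g c].Nodup := by
    simp only [List.nodup_cons, List.mem_cons, List.not_mem_nil, not_or, or_false, List.nodup_nil,
      and_true]
    exact ⟨⟨hab.symm, (Ne.symm hca), hda.symm⟩, ⟨(Ne.symm hcb), hdb.symm⟩, hcd.symm, not_false⟩
  have hsupp : g.support = {a, g a, c, g c} := by
    refine (Finset.eq_of_subset_of_card_le ?_ ?_).symm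
    · simp [Finset.insert_subset_iff, ha, hgb, hcs, hgd]
    · rw [h4]
      simpa using (List.toFinset_card_of_nodup hnd).ge
  refine ⟨a, g a, c, g c, hnd, ?_, hsupp⟩
  have : swap a (g a) * swap c (g c) = g := by
    ext z
    by_cases hz : z ∈ g.support
    · rw [hsupp] at hz
      simp only [Finset.mem_insert, Finset.mem_singleton] at hz
      rcases hz with rfl | rfl | rfl | rfl
      · simp [swap_apply_of_ne_of_ne (Ne.symm hca) hda.symm]
      · simp [swap_apply_of_ne_of_ne (Ne.symm hcb) hdb.symm, hgg]
      · simp [swap_apply_of_ne_of_ne hda hdb]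
      · simp [swap_apply_of_ne_of_ne hca hcb, hgg]
    · have hz' := notMem_support.mp hz
      rw [hsupp] at hz
      simp only [Finset.mem_insert, Finset.mem_singleton, not_or] at hz
      simp [swap_apply_of_ne_of_ne hz.2.2.1 hz.2.2.2, swap_apply_of_ne_of_ne hz.1 hz.2.1, hz']
  rw [this]; exact hg

/-- Supports of involutions. -/
theorem Small.involution (h : Small X) {g : Perm α} (hg : g ∈ X) (ho : orderOf g = 2) :
    (Equiv.Perm.sign g = 1 ∧ g.support.card = 8) ∨
      (Equiv.Perm.sign g = -1 ∧ (g.support.card = 6 ∨ g.support.card = 10)) := by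
  obtain ⟨m, hm1, hct, hcard⟩ := support_card_of_prime Nat.prime_two ho
  have hle : g.support.card ≤ 11 := h.card_eleven ▸ Finset.card_le_univ _
  have hs := sign_of_replicate hct
  have hm : m ≤ 5 := by omega
  have hne1 : m ≠ 1 := fun h1 => by
    subst h1
    have := h.no_cycle hg (card_support_eq_two.mp hcard).isCycle (by rw [hcard]; norm_num)
    omega
  have hne2 : m ≠ 2 := fun h2 => h.no_dt (dt_of_involution hg (ho ▸ pow_orderOf_eq_one g) (by omega))
  interval_cases m <;> first | omega | (rw [hcard, hs]; decide)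

theorem Small.order_five (h : Small X) {g : Perm α} (hg : g ∈ X) (ho : orderOf g = 5) :
    g.support.card = 10 := by
  obtain ⟨m, hm1, hct, hcard⟩ := support_card_of_prime (by norm_num) ho
  have hle : g.support.card ≤ 11 := h.card_eleven ▸ Finset.card_le_univ _
  rcases (show m = 1 ∨ m = 2 by omega) with rfl | rfl
  · have := h.no_cycle hg (card_cycleType_eq_one.mp (by rw [hct]; rfl)) (by rw [hcard]; norm_num)
    omega
  · omega

theorem Small.order_seven (h : Small X) {g : Perm α} (hg : g ∈ X) : orderOf g ≠ 7 := by
  intro ho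
  obtain ⟨m, hm1, hct, hcard⟩ := support_card_of_prime (by norm_num) ho
  have hle : g.support.card ≤ 11 := h.card_eleven ▸ Finset.card_le_univ _
  obtain rfl : m = 1 := by omega
  have := h.no_cycle hg (card_cycleType_eq_one.mp (by rw [hct]; rfl)) (by rw [hcard]; norm_num)
  omega

theorem Small.not_dvd_seven (h : Small X) : ¬ 7 ∣ Nat.card X := by
  intro hd
  haveI : Fact (Nat.Prime 7) := ⟨by norm_num⟩
  obtain ⟨x, hx⟩ := exists_prime_orderOf_dvd_card' (G := X) 7 hd
  exact h.order_seven x.2 (by rw [Subgroup.orderOf_coe, hx])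

/-- A subgroup of order `p²` of a group of degree eleven (`p = 3` with three fixed points, or
`p = 5`) contains a cycle of length `p`. -/
theorem exists_cycle_of_sq {p : ℕ} [hpf : Fact p.Prime] {T : Subgroup (Perm α)}
    (hT : Nat.card T = p ^ 2) (S : Finset α) (hS : ∀ g ∈ T, ∀ z ∈ S, g z = z)
    (h1 : Fintype.card α < p ^ 2 + S.card) (h2 : Fintype.card α < 3 * p + S.card) :
    ∃ w ∈ T, w.IsCycle ∧ w.support.card = p := by
  classical
  have hp : p.Prime := hpf.out
  have hTp : IsPGroup p T := IsPGroup.of_card hT
  have hcomm : ∀ a b : T, a * b = b * a :=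
    (IsPGroup.isMulCommutative_of_card_eq_prime_sq hT).is_comm.comm
  obtain ⟨u, hu⟩ : ∃ u : T, u ≠ 1 := by
    haveI : Nontrivial T := Finite.one_lt_card_iff_nontrivial.mp (by
      rw [hT]; exact Nat.one_lt_pow two_ne_zero hp.one_lt)
    exact exists_ne 1
  obtain ⟨z, hz⟩ : ∃ z, (u : Perm α) z ≠ z := by
    by_contra h
    push Not at h
    exact hu (Subtype.ext (Equiv.ext h))
  set O := MulAction.orbit T z with hO
  obtain ⟨e, he⟩ := hTp.card_orbit z
  change Nat.card O = p ^ e at he
  have hdisj : Disjoint O.toFinset S := by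
    rw [Finset.disjoint_left]
    intro v hv hvS
    rw [Set.mem_toFinset] at hv
    obtain ⟨g, hg⟩ := hv
    have : (g : Perm α) z = v := hg
    have hzv : z = v := by
      apply (g : Perm α).injective
      rw [this, hS g g.2 v hvS]
    subst hzv
    exact hz (hS u u.2 z hvS)
  have hsum := Finset.card_le_univ (O.toFinset ∪ S)
  rw [Finset.card_union_of_disjoint hdisj, ← Set.ncard_eq_toFinset_card', ← Nat.card_coe_set_eq,
    he] at hsum
  have he1 : e = 1 := by
    have h0 : 1 < Nat.card O := Finite.one_lt_card_iff_nontrivial.mpr ⟨⟨z, mem_orbit_self z⟩,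
      ⟨_, mem_orbit z u⟩, fun h => hz (congrArg Subtype.val h).symm⟩
    rcases e with _ | _ | e
    · rw [he, pow_zero] at h0; omega
    · rfl
    · have : p ^ 2 ≤ p ^ (e + 1 + 1) := Nat.pow_le_pow_right hp.pos (by omega)
      omega
  subst he1
  rw [pow_one] at he hsum
  have hstab : p ∣ Nat.card (stabilizer T z) := by
    have h := (stabilizer T z).index_mul_card
    have hi : (stabilizer T z).index = p := by
      rw [index_stabilizer, ← Nat.card_coe_set_eq]
      exact he
    rw [hi, hT, pow_two] at h
    rw [Nat.eq_of_mul_eq_mul_left hp.pos h]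
  obtain ⟨⟨w, hw⟩, hw1⟩ := exists_prime_orderOf_dvd_card' (G := stabilizer T z) p hstab
  have hwo : orderOf (w : Perm α) = p := by
    rw [Subgroup.orderOf_coe, ← hw1]; exact (Subgroup.orderOf_mk w hw).symm
  obtain ⟨m, hm1, hct, hcard⟩ := support_card_of_prime hp hwo
  have hfix : O.toFinset ∪ S ⊆ (w : Perm α).supportᶜ := by
    refine Finset.union_subset (fun v hv => ?_) fun v hv =>
      Finset.mem_compl.mpr (notMem_support.mpr (hS w w.2 v hv))
    rw [Set.mem_toFinset] at hv
    obtain ⟨g, rfl⟩ := hv
    rw [Finset.mem_compl, notMem_support]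
    show (w : Perm α) ((g : Perm α) z) = (g : Perm α) z
    have hg := congrArg Subtype.val (hcomm w g)
    rw [Subgroup.coe_mul, Subgroup.coe_mul] at hg
    rw [← Perm.mul_apply, hg, Perm.mul_apply]
    exact congrArg _ hw
  have hle := Finset.card_le_card hfix
  rw [Finset.card_union_of_disjoint hdisj, ← Set.ncard_eq_toFinset_card', ← Nat.card_coe_set_eq,
    he, Finset.card_compl, hcard] at hle
  have hwle : m * p ≤ Fintype.card α := hcard ▸ Finset.card_le_univ _
  obtain rfl : m = 1 := by
    by_contra hne
    have : 2 * p ≤ m * p := Nat.mul_le_mul_right p (by omega)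
    omega
  exact ⟨w, w.2, card_cycleType_eq_one.mp (by rw [hct, Multiset.card_replicate]), by omega⟩

theorem Small.not_dvd_twenty_five (h : Small X) : ¬ 25 ∣ Nat.card X := by
  intro hd
  haveI : Fact (Nat.Prime 5) := ⟨by norm_num⟩
  obtain ⟨T, hT⟩ := Sylow.exists_subgroup_card_pow_prime (G := X) 5 (n := 2) hd
  obtain ⟨w, hw, hc, hcard⟩ := exists_cycle_of_sq (p := 5) (T := T.map X.subtype)
    (by rw [Subgroup.card_map_of_injective X.subtype_injective, hT]) ∅ (by simp)
    (by rw [h.card_eleven]; norm_num) (by rw [h.card_eleven]; norm_num)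
  have := h.no_cycle (Subgroup.map_subtype_le T hw) hc (by rw [hcard]; norm_num)
  omega

/-- Order nine subgroups fix at most two points. -/
theorem Small.no_nine_fixing (h : Small X) {T : Subgroup (Perm α)} (hTX : T ≤ X)
    (hT : Nat.card T = 9) {S : Finset α} (hS : ∀ g ∈ T, ∀ z ∈ S, g z = z) : S.card < 3 := by
  by_contra h3
  haveI : Fact (Nat.Prime 3) := ⟨Nat.prime_three⟩
  obtain ⟨w, hw, hc, hcard⟩ := exists_cycle_of_sq (p := 3) (T := T) (by rw [hT]; norm_num) S hS
    (by rw [h.card_eleven]; omega) (by rw [h.card_eleven]; omega)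
  have := h.no_cycle (hTX hw) hc (by rw [hcard]; norm_num)
  omega

/-- The support of an element commuting with `x` of order five is at least five. -/
theorem five_le_support_of_commute {x c : Perm α} (hx : orderOf x = 5) (hc : Commute c x)
    {S : Finset α} (hS : S = x.support \ c.support) (hne : S.Nonempty) : 5 ≤ S.card := by
  refine five_le_of_invariant hx hne (hS ▸ Finset.sdiff_subset) fun z hz => ?_
  rw [hS, Finset.mem_sdiff] at hz ⊢
  exact ⟨apply_mem_support.mpr hz.1, fun h => hz.2 ((mem_support_iff_of_commute hc.symm z).mp h)⟩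

/-- No even involution of the group commutes with an element of order five. -/
theorem Small.no_commuting (h : Small X) {x c : Perm α} (hx : x ∈ X) (hxo : orderOf x = 5)
    (hc : c ∈ X) (hco : orderOf c = 2) (hs : Equiv.Perm.sign c = 1) : ¬ Commute c x := by
  intro hcx
  have h8 : c.support.card = 8 := by
    rcases h.involution hc hco with ⟨-, h8⟩ | ⟨hs', -⟩
    · exact h8
    · rw [hs] at hs'; exact absurd hs' (by decide)
  have h10 := h.order_five hx hxo
  have hsub : c.support ⊆ x.support := by
    intro z hz
    by_contra hzx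
    -- the unique fixed point of `x` is fixed by `c`
    have hcz : c z ∉ x.support := fun hh => hzx ((mem_support_iff_of_commute hcx z).mp hh)
    have hu : (x.supportᶜ).card = 1 := by rw [Finset.card_compl, h.card_eleven, h10]
    obtain ⟨w, hw⟩ := Finset.card_eq_one.mp hu
    have h1 : z ∈ x.supportᶜ := Finset.mem_compl.mpr hzx
    have h2 : c z ∈ x.supportᶜ := Finset.mem_compl.mpr hcz
    rw [hw, Finset.mem_singleton] at h1 h2
    exact mem_support.mp hz (h2.trans h1.symm)
  have hS : (x.support \ c.support).card = 2 := by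
    rw [Finset.card_sdiff_of_subset hsub, h10, h8]
  have := five_le_support_of_commute hxo hcx rfl (Finset.card_pos.mp (by omega))
  omega

end Cfsg.Agent.H79.DegreeEleven
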