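import Mathlib
import Cfsg.Agent.H79.DegreeEleven.Small
import Cfsg.Agent.H32.PrimeNormalizer
import Cfsg.Agent.H36.PermNormalizer
import Cfsg.Agent.H36.Basic
import Cfsg.Agent.Fusion.PComplement
import Cfsg.Agent.Cores.PCore

/-!
# Orders of groups of degree eleven
-/

set_option autoImplicit false
set_option linter.style.haveILetI false

namespace Cfsg.Agent.H79.DegreeEleven

open Equiv Equiv.Perm MulAction

variable {α : Type*} [Fintype α] [DecidableEq α] {G : Subgroup (Perm α)}

/-- Reflections of `ZMod 11` are odd. -/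
theorem sign_subLeft_eleven : ∀ b : ZMod 11, Equiv.Perm.sign (Equiv.subLeft b) = -1 := by
  decide +kernel

/-- A characteristic subgroup of a normalised subgroup is normalised. -/
theorem conj_mem_of_char {H : Type*} [Group H] {T : Subgroup H} (K : Subgroup T)
    [K.Characteristic] {g : H} (hg : g ∈ Subgroup.normalizer (T : Set H)) {x : H}
    (hx : x ∈ K.map T.subtype) : g * x * g⁻¹ ∈ K.map T.subtype := by
  obtain ⟨y, hy, rfl⟩ := hx
  let a : MulAut T := T.normalizerMonoidHom ⟨g, hg⟩
  refine ⟨a y, ?_, rfl⟩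
  exact (SetLike.ext_iff.mp ((inferInstance : K.Characteristic).fixed a) y).mpr hy

theorem normalizer_map_of_char {H : Type*} [Group H] {T G : Subgroup H} (hn : G ≤ Subgroup.normalizer (T : Set H))
    (K : Subgroup T) [K.Characteristic] : G ≤ Subgroup.normalizer ((K.map T.subtype : Subgroup H) : Set H) := by
  intro g hg
  refine Subgroup.mem_normalizer_iff.mpr fun x => ⟨fun hx => conj_mem_of_char K (hn hg) hx, fun hx => ?_⟩
  have := conj_mem_of_char K (hn (G.inv_mem hg)) hx
  simpa [mul_assoc] using this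

/-- A group normalising a subgroup of order eleven is solvable. -/
theorem solvable_of_normalizes (hα : Fintype.card α = 11) (G Q : Subgroup (Perm α))
    (hQ : Nat.card Q = 11) (hQG : Q ≤ G) (hn : G ≤ Subgroup.normalizer (Q : Set (Perm α))) :
    Group.IsSolvable G := by
  haveI : Fact (Nat.Prime 11) := ⟨by norm_num⟩
  obtain ⟨x, hx⟩ := exists_prime_orderOf_dvd_card' (G := Q) 11 (by rw [hQ])
  have hxo : orderOf (⟨x, hQG x.2⟩ : G) = 11 := by
    rw [← Subgroup.orderOf_coe] at hx ⊢; exact hx
  obtain ⟨C, hC⟩ := H32.exists_coords_of_order (p := 11) hα (⟨x, hQG x.2⟩ : G) hxo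
  refine C.isSolvable fun g => ?_
  have hQz : Q = Subgroup.zpowers (x : Perm α) := by
    refine (Subgroup.eq_of_le_of_card_ge (Subgroup.zpowers_le.mpr x.2) ?_).symm
    rw [hQ, Nat.card_zpowers, Subgroup.orderOf_coe, hx]
  obtain ⟨k, hk⟩ : ∃ k : ℕ, g * C.gen * g⁻¹ = C.gen ^ k := by
    have h1 : g * C.gen * g⁻¹ ∈ Subgroup.zpowers C.gen := by
      have h2 := (Subgroup.mem_normalizer_iff.mp (hn g.2) (x : Perm α)).mp x.2
      obtain ⟨m, hm⟩ := Subgroup.mem_zpowers_iff.mp (hQz.le h2)
      rw [hC]
      exact Subgroup.mem_zpowers_iff.mpr ⟨m, Subtype.ext (by simpa using hm)⟩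
    exact (IsOfFinOrder.mem_powers_iff_mem_zpowers (isOfFinOrder_of_finite C.gen) |>.mpr h1).imp
      fun _ h => h.symm
  obtain ⟨b, hb⟩ : ∃ b, g • C.coord 0 = C.coord b :=
    ⟨C.coord.symm (g • C.coord 0), (C.coord.apply_symm_apply _).symm⟩
  refine ⟨(k : ZMod 11), b, fun j => ?_⟩
  have h1 : C.coord j = C.gen ^ j.val • C.coord 0 := by
    rw [C.pow_smul, zero_add, ZMod.natCast_zmod_val]
  have h2 : g * C.gen ^ j.val = C.gen ^ (k * j.val) * g := by
    rw [pow_mul, ← hk, conj_pow, inv_mul_cancel_right]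
  rw [h1, smul_smul, h2, mul_smul, hb, C.pow_smul, Nat.cast_mul, ZMod.natCast_zmod_val, add_comm]

/-- A non-trivial normalised subgroup has order divisible by eleven. -/
theorem dvd_card_normalised (h : Small G) (S : Subgroup (Perm α)) (hSG : S ≤ G)
    (hSn : G ≤ Subgroup.normalizer (S : Set (Perm α))) (hS : S ≠ ⊥) :
    IsPretransitive S α ∧ 11 ∣ Nat.card S := by
  haveI := h.trans
  haveI : (S.subgroupOf G).Normal := Subgroup.normal_subgroupOf_of_le_normalizer hSn
  haveI := h.prim
  haveI := IsPreprimitive.isQuasiPreprimitive (M := G) (α := α)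
  have hnt : fixedPoints (S.subgroupOf G) α ≠ Set.univ := by
    intro h
    apply hS
    rw [Subgroup.eq_bot_iff_forall]
    intro s hs
    refine Equiv.ext fun a => ?_
    have := (h ▸ Set.mem_univ a : a ∈ fixedPoints (S.subgroupOf G) α) ⟨⟨s, hSG hs⟩, hs⟩
    exact this
  haveI := IsQuasiPreprimitive.isPretransitive_of_normal (G := G) (X := α) hnt
  obtain ⟨a⟩ : Nonempty α := Fintype.card_pos_iff.mp (by rw [h.card_eleven]; norm_num)
  refine ⟨⟨fun u v => ?_⟩, ?_⟩
  · obtain ⟨⟨g, hg⟩, hguv⟩ := exists_smul_eq (S.subgroupOf G) u v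
    exact ⟨⟨(g : Perm α), hg⟩, hguv⟩
  · have h1 := (stabilizer (S.subgroupOf G) a).index_dvd_card
    rwa [index_stabilizer_of_transitive, Nat.card_eq_fintype_card, h.card_eleven,
      Nat.card_congr (Subgroup.subgroupOfEquivOfLe hSG).toEquiv] at h1

/-- Orders of the non-trivial normalised subgroups of the alternating group. -/
theorem card_normalised (h : Small G) (hG : ¬ Group.IsSolvable G) (T : Subgroup (Perm α))
    (hTG : T ≤ G) (hTn : G ≤ Subgroup.normalizer (T : Set (Perm α)))
    (hTA : T ≤ alternatingGroup α) (hT : T ≠ ⊥) :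
    ∃ n, n % 11 = 1 ∧ 12 ≤ n ∧ Nat.card T = 55 * n := by
  classical
  have hα := h.card_eleven
  haveI : Fact (Nat.Prime 11) := ⟨by norm_num⟩
  obtain ⟨hTt, -⟩ := dvd_card_normalised h T hTG hTn hT
  haveI := hTt
  obtain ⟨P⟩ : Nonempty (Sylow 11 T) := inferInstance
  have hP := H32.card_sylow_prime_degree hα T P
  have hPn : ¬ (P : Subgroup T).Normal := by
    intro hn
    haveI := P.characteristic_of_normal hn
    exact hG (solvable_of_normalizes hα G ((P : Subgroup T).map T.subtype)
      (by rw [Subgroup.card_map_of_injective T.subtype_injective, hP])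
      ((Subgroup.map_subtype_le _).trans hTG) (normalizer_map_of_char hTn _))
  set N := Subgroup.normalizer ((P : Subgroup T) : Set T) with hN
  have h110 : Nat.card N ∣ 110 := by
    have hQ : Nat.card ((P : Subgroup T).map T.subtype) = 11 := by
      rw [Subgroup.card_map_of_injective T.subtype_injective, hP]
    have h1 := H36.card_normalizer_of_card_eq (p := 11) (by rw [hα]; norm_num) _ hQ
    rw [hα] at h1
    have h2 := Subgroup.card_dvd_of_le (Subgroup.le_normalizer_map T.subtype (H := (P : Subgroup T)))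
    rw [Subgroup.card_map_of_injective T.subtype_injective, h1] at h2
    rwa [show 11 * (11 - 1) * Nat.factorial (11 - 11) = 110 from rfl] at h2
  have hodd : ¬ Even (Nat.card N) := by
    intro he
    obtain ⟨C, t, b, ht, -, htj⟩ := H32.exists_reflection hα T P he
    have h1 : Equiv.Perm.sign (t : Perm α) = 1 := Equiv.Perm.mem_alternatingGroup.mp (hTA t.2)
    have h2 : (t : Perm α) = C.coord.permCongr (Equiv.subLeft b) := by
      ext a
      obtain ⟨j, rfl⟩ := C.coord.surjective a
      have := htj j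
      rw [Equiv.permCongr_apply, Equiv.symm_apply_apply, Equiv.subLeft_apply]
      rw [show b - j = -j + b by ring]
      exact this
    rw [h2, Equiv.Perm.sign_permCongr, sign_subLeft_eleven] at h1
    exact absurd h1 (by decide)
  have h11N : 11 ∣ Nat.card N := hP ▸ Subgroup.card_dvd_of_le Subgroup.le_normalizer
  have hN11 : Nat.card N ≠ 11 := by
    intro h11
    have hPN : (P : Subgroup T) = N :=
      Subgroup.eq_of_le_of_card_ge Subgroup.le_normalizer (by rw [h11, hP])
    haveI : IsCyclic (P : Subgroup T) := isCyclic_of_prime_card hP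
    obtain ⟨P', K, hK, hKc⟩ : Cfsg.HasNormalPComplement 11 T :=
      Fusion.hasNormalPComplement_of_normalizer_le_centralizer P (fun g hg => by
        have hg' : g ∈ (P : Subgroup T) := by rw [hPN]; exact hg
        exact Subgroup.mem_centralizer_iff.mpr fun x hx => congrArg Subtype.val
          (mul_comm' (⟨x, hx⟩ : (P : Subgroup T)) ⟨g, hg'⟩))
    haveI := hK
    by_cases hK1 : K = ⊥
    · rw [hK1] at hKc
      have h' : (P' : Subgroup T) = ⊤ := by
        rw [← Subgroup.IsComplement'.sup_eq_top hKc, bot_sup_eq]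
      have : (P : Subgroup T) = ⊤ := Subgroup.eq_top_of_card_eq _ (by
        rw [hP, ← H32.card_sylow_prime_degree hα T P', h', Subgroup.card_top])
      exact hPn (this ▸ inferInstance)
    have hcopK : (Nat.card K).Coprime 11 := by
      rw [Nat.coprime_comm, Nat.Prime.coprime_iff_not_dvd (by norm_num)]
      exact Fusion.not_dvd_card_of_isComplement' P' hKc
    haveI : (Cfsg.pPrimeCore 11 T).Characteristic := Cores.pPrimeCore_characteristic
    have hle : K ≤ Cfsg.pPrimeCore 11 T := Cores.le_pPrimeCore hcopK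
    have hne : (Cfsg.pPrimeCore 11 T).map T.subtype ≠ ⊥ := fun h0 => hK1 (le_bot_iff.mp (hle.trans
      (le_of_eq ((Subgroup.map_eq_bot_iff_of_injective _ T.subtype_injective).mp h0))))
    have := (dvd_card_normalised h _ ((Subgroup.map_subtype_le _).trans hTG)
      (normalizer_map_of_char hTn _) hne).2
    rw [Subgroup.card_map_of_injective T.subtype_injective] at this
    exact Cores.not_dvd_card_pPrimeCore this
  have hN55 : Nat.card N = 55 := by
    have hle := Nat.le_of_dvd (by norm_num) h110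
    obtain ⟨c, hc⟩ := h11N
    rw [Nat.even_iff] at hodd
    rw [hc] at h110 hle hodd hN11 ⊢
    have hc10 : c ≤ 10 := by omega
    interval_cases c <;> omega
  refine ⟨Nat.card (Sylow 11 T), card_sylow_modEq_one 11 T, ?_, ?_⟩
  · have h1 : Nat.card (Sylow 11 T) % 11 = 1 := card_sylow_modEq_one 11 T
    by_contra hlt
    have h2 : Nat.card (Sylow 11 T) = 1 := by omega
    haveI : Subsingleton (Sylow 11 T) := (Nat.card_eq_one_iff_unique.mp h2).1
    exact hPn P.normal_of_subsingleton
  · rw [← hN55, mul_comm]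
    exact (H36.card_sylow_mul_normalizer P).symm

/-- An element of order five generates its centraliser in an even group of degree eleven. -/
theorem card_centralizer_five {T : Subgroup (Perm α)} (h : Small T) (hTA : T ≤ alternatingGroup α)
    (x : T) (hx : orderOf x = 5) : Nat.card (Subgroup.centralizer ({x} : Set T)) = 5 := by
  classical
  haveI : Fact (Nat.Prime 5) := ⟨by norm_num⟩
  set C := Subgroup.centralizer ({x} : Set T) with hC
  have hxo : orderOf (x : Perm α) = 5 := by rw [Subgroup.orderOf_coe, hx]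
  have h10 := h.order_five x.2 hxo
  have hx_mem : x ∈ C := Subgroup.mem_centralizer_iff.mpr fun y hy => by rw [Set.mem_singleton_iff.mp hy]
  have h5 : 5 ∣ Nat.card C := hx ▸ (Subgroup.orderOf_mk x hx_mem) ▸ orderOf_dvd_natCard (⟨x, hx_mem⟩ : C)
  have hp : IsPGroup 5 C := by
    rw [IsPGroup.iff_card]
    refine ⟨(Nat.card C).primeFactorsList.length, ?_⟩
    refine Nat.eq_prime_pow_of_unique_prime_dvd Nat.card_pos.ne' fun {q} hq hqd => ?_
    haveI := Fact.mk hq
    obtain ⟨c, hc⟩ := exists_prime_orderOf_dvd_card' (G := C) q hqd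
    have hco : orderOf ((c : T) : Perm α) = q := by rw [Subgroup.orderOf_coe, Subgroup.orderOf_coe, hc]
    have hcx : Commute ((c : T) : Perm α) (x : Perm α) := by
      have h1 := Subgroup.mem_centralizer_iff.mp c.2 x rfl
      exact (congrArg Subtype.val h1).symm
    have hpow : ((c : T) : Perm α) ^ (2 * 5) = 1 := by
      ext z
      rw [Perm.one_apply]
      by_cases hz : z ∈ (x : Perm α).support
      · exact H76.pow_fix_of_commute_double (by norm_num) hxo h10 hcx hz
      · have hfix : ((c : T) : Perm α) z = z := by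
          obtain ⟨w, hw⟩ := Finset.card_eq_one.mp (show ((x : Perm α).supportᶜ).card = 1 by
            rw [Finset.card_compl, h.card_eleven, h10])
          have h1 : z ∈ (x : Perm α).supportᶜ := Finset.mem_compl.mpr hz
          have h2 : ((c : T) : Perm α) z ∈ (x : Perm α).supportᶜ :=
            Finset.mem_compl.mpr fun hh => hz ((mem_support_iff_of_commute hcx z).mp hh)
          rw [hw, Finset.mem_singleton] at h1 h2
          rw [h2, h1]
        exact pow_apply_eq_self_of_apply_eq_self hfix _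
    have hq10 : q ∣ 10 := hco ▸ orderOf_dvd_of_pow_eq_one hpow
    rcases (Nat.Prime.dvd_mul hq).mp (show q ∣ 2 * 5 from hq10) with h2 | h5'
    · exfalso
      have hq2 : q = 2 := (Nat.prime_dvd_prime_iff_eq hq Nat.prime_two).mp h2
      exact h.no_commuting x.2 hxo (c : T).2 (by rw [hco, hq2])
        (mem_alternatingGroup.mp (hTA (c : T).2)) hcx
    · exact (Nat.prime_dvd_prime_iff_eq hq (by norm_num)).mp h5'
  obtain ⟨k, hk⟩ := IsPGroup.iff_card.mp hp
  rcases k with _ | _ | k
  · rw [hk, pow_zero] at h5; exact absurd (Nat.le_of_dvd one_pos h5) (by norm_num)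
  · rw [hk, zero_add, pow_one]
  · exfalso
    refine h.not_dvd_twenty_five (dvd_trans ?_ C.card_subgroup_dvd_card)
    rw [hk, show k + 1 + 1 = 2 + k by omega, pow_add]
    exact dvd_mul_right _ _

/-- The two possible orders. -/
theorem card_even_part (h : Small G) (hG : ¬ Group.IsSolvable G) (T : Subgroup (Perm α))
    (hTG : T ≤ G) (hTn : G ≤ Subgroup.normalizer (T : Set (Perm α)))
    (hTA : T ≤ alternatingGroup α) (hT : T ≠ ⊥) :
    Small T ∧ (Nat.card T = 660 ∨ Nat.card T = 7920) := by
  classical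
  have hTs : Small T :=
    ⟨h.card_eleven, (dvd_card_normalised h T hTG hTn hT).1, fun hle => h.not_alt (hle.trans hTG)⟩
  refine ⟨hTs, ?_⟩
  obtain ⟨n, hn, hn12, hcard⟩ := card_normalised h hG T hTG hTn hTA hT
  have hdvd : n ∣ 362880 := by
    haveI : Nontrivial α := Fintype.one_lt_card_iff_nontrivial.mp (by rw [h.card_eleven]; norm_num)
    have h1 := Subgroup.card_dvd_of_le hTA
    rw [nat_card_alternatingGroup, show Nat.card α = 11 by
      rw [Nat.card_eq_fintype_card, h.card_eleven], hcard,
      show Nat.factorial 11 / 2 = 55 * 362880 from rfl] at h1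
    exact Nat.dvd_of_mul_dvd_mul_left (by norm_num) h1
  have h5 : ¬ 5 ∣ n := fun h5 => hTs.not_dvd_twenty_five (by
    rw [hcard]; obtain ⟨c, rfl⟩ := h5; exact ⟨11 * c, by ring⟩)
  have h7 : ¬ 7 ∣ n := fun h7 => hTs.not_dvd_seven (by rw [hcard]; exact h7.mul_left 55)
  have h23 : n ∣ 2 ^ 7 * 3 ^ 4 := by
    refine Nat.Coprime.dvd_of_dvd_mul_right ?_ (show n ∣ 2 ^ 7 * 3 ^ 4 * 35 from hdvd)
    rw [show (35 : ℕ) = 5 * 7 from rfl]
    exact Nat.Coprime.mul_right ((Nat.Prime.coprime_iff_not_dvd (by norm_num)).mpr h5).symm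
      ((Nat.Prime.coprime_iff_not_dvd (by norm_num)).mpr h7).symm
  obtain ⟨u, v, hu, hv, rfl⟩ := exists_dvd_and_dvd_of_dvd_mul h23
  obtain ⟨i, hi, rfl⟩ := (Nat.dvd_prime_pow Nat.prime_two).mp hu
  obtain ⟨j, hj, rfl⟩ := (Nat.dvd_prime_pow Nat.prime_three).mp hv
  -- the Sylow 5-normaliser
  haveI : Fact (Nat.Prime 5) := ⟨by norm_num⟩
  obtain ⟨P⟩ : Nonempty (Sylow 5 T) := inferInstance
  have hP5 : Nat.card (P : Subgroup T) = 5 := by
    obtain ⟨k, hk⟩ := IsPGroup.iff_card.mp P.2
    have h5T : 5 ∣ Nat.card T := ⟨11 * (2 ^ i * 3 ^ j), by rw [hcard]; ring⟩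
    have h5P := P.dvd_card_of_dvd_card h5T
    rcases k with _ | _ | k
    · rw [hk, pow_zero] at h5P; exact absurd (Nat.le_of_dvd one_pos h5P) (by norm_num)
    · rw [hk, zero_add, pow_one]
    · exfalso
      refine hTs.not_dvd_twenty_five (dvd_trans ?_ (P : Subgroup T).card_subgroup_dvd_card)
      rw [hk, show k + 1 + 1 = 2 + k by omega, pow_add]
      exact dvd_mul_right _ _
  obtain ⟨x, hx⟩ := exists_prime_orderOf_dvd_card' (G := (P : Subgroup T)) 5 (by rw [hP5])
  have hxo : orderOf (x : T) = 5 := by rw [Subgroup.orderOf_coe, hx]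
  have hPx : (P : Subgroup T) = Subgroup.zpowers (x : T) :=
    (Subgroup.eq_of_le_of_card_ge (Subgroup.zpowers_le.mpr x.2)
      (by rw [hP5, Nat.card_zpowers, hxo])).symm
  have hC : Nat.card (Subgroup.centralizer ((P : Subgroup T) : Set T)) = 5 := by
    rw [hPx, H36.centralizer_zpowers]
    exact card_centralizer_five hTs hTA x hxo
  set N := Subgroup.normalizer ((P : Subgroup T) : Set T) with hN
  have hrel := H36.relIndex_centralizer_dvd_of_prime (p := 5) (by norm_num) (P : Subgroup T) hP5
  have hNs : ∃ s, s ∣ 4 ∧ Nat.card N = 5 * s := by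
    refine ⟨_, hrel, ?_⟩
    have hmul := Subgroup.card_mul_index
      ((Subgroup.centralizer ((P : Subgroup T) : Set T)).subgroupOf N)
    rw [Nat.card_congr (Subgroup.subgroupOfEquivOfLe
      (Subgroup.centralizer_le_normalizer _)).toEquiv, hC] at hmul
    exact hmul.symm
  obtain ⟨s, hs4, hNc⟩ := hNs
  have hsyl := (H36.card_sylow_mul_normalizer P).symm
  have hmod : Nat.card (Sylow 5 T) % 5 = 1 := card_sylow_modEq_one 5 T
  rw [← hN, hNc, hcard] at hsyl
  have hs : s = 1 ∨ s = 2 ∨ s = 4 := by
    have hle := Nat.le_of_dvd (by norm_num) hs4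
    interval_cases s <;> revert hs4 <;> decide
  rw [hcard]
  interval_cases i <;> interval_cases j <;>
    first | omega | (rcases hs with rfl | rfl | rfl <;> omega)

end Cfsg.Agent.H79.DegreeEleven
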