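import Mathlib
import Cfsg.Agent.H79.DegreeEleven.Cards

/-!
# The order 7920 case in degree eleven
-/

set_option autoImplicit false
set_option linter.style.haveILetI false

namespace Cfsg.Agent.H79.DegreeEleven

open Equiv Equiv.Perm MulAction

variable {α : Type*} [Fintype α] [DecidableEq α] {T : Subgroup (Perm α)}

/-- Point pairs of a doubly transitive group on 11 points. -/
theorem card_two_points (hα : Fintype.card α = 11) (T : Subgroup (Perm α))
    [IsMultiplyPretransitive T α 2] {a b : α} (hab : a ≠ b) :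
    Nat.card T = 110 * Nat.card (stabilizer T ((a, b) : α × α)) := by
  have horb : orbit T ((a, b) : α × α) = {x : α × α | x.1 ≠ x.2} := by
    ext ⟨c, d⟩
    constructor
    · rintro ⟨g, hg⟩
      obtain ⟨rfl, rfl⟩ := Prod.ext_iff.mp hg
      exact fun h => hab (MulAction.injective g h)
    · intro hcd
      obtain ⟨g, hgc, hgd⟩ := (MulAction.is_two_pretransitive_iff (G := T) (α := α)).mp inferInstance hab hcd
      exact ⟨g, Prod.ext hgc hgd⟩
  have h1 := (stabilizer T ((a, b) : α × α)).index_mul_card
  rw [index_stabilizer, horb] at h1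
  rw [← h1]
  congr 1
  rw [Set.ncard_eq_toFinset_card']
  have : ({x : α × α | x.1 ≠ x.2}).toFinset = (Finset.univ : Finset α).offDiag := by
    ext x; simp
  rw [this, Finset.offDiag_card, Finset.card_univ, hα]

variable (h : Small T) (hTA : T ≤ alternatingGroup α) (hcard : Nat.card T = 7920)
  [IsMultiplyPretransitive T α 2]

include h hTA hcard in
/-- The two-point stabiliser has orbits of length nine on the other points. -/
theorem orbit_card_nine {a b : α} (hab : a ≠ b) {c : α} (hca : c ≠ a) (hcb : c ≠ b) :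
    Nat.card (orbit (stabilizer T ((a, b) : α × α)) c) = 9 := by
  classical
  set K := stabilizer T ((a, b) : α × α) with hK
  have hK72 : Nat.card K = 72 := by
    have : Nat.card T = 110 * Nat.card K := card_two_points h.card_eleven T hab
    omega
  have hfix : ∀ k : K, ((k : T) : Perm α) a = a ∧ ((k : T) : Perm α) b = b := fun k =>
    Prod.ext_iff.mp (mem_stabilizer_iff.mp k.2)
  have hmul : ∀ z : α, Nat.card (orbit K z) * Nat.card (stabilizer K z) = 72 := fun z => by
    rw [Nat.card_coe_set_eq, ← index_stabilizer, Subgroup.index_mul_card, hK72]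
  have hout : ∀ z : α, z ≠ a → z ≠ b → Disjoint (orbit K z).toFinset ({a, b} : Finset α) := by
    intro z hza hzb
    rw [Finset.disjoint_left]
    intro v hv hv'
    rw [Set.mem_toFinset] at hv
    obtain ⟨k, hk⟩ := hv
    have hk' : ((k : T) : Perm α) z = v := hk
    rcases Finset.mem_insert.mp hv' with rfl | hv''
    · exact hza (((k : T) : Perm α).injective (hk'.trans (hfix k).1.symm))
    · rw [Finset.mem_singleton] at hv''
      subst hv''
      exact hzb (((k : T) : Perm α).injective (hk'.trans (hfix k).2.symm))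
  have hcardset : ∀ z : α, (orbit K z).toFinset.card = Nat.card (orbit K z) := fun z => by
    rw [← Set.ncard_eq_toFinset_card', ← Nat.card_coe_set_eq]
  have hle9 : ∀ z : α, z ≠ a → z ≠ b → Nat.card (orbit K z) ≤ 9 := fun z hza hzb => by
    have h1 := Finset.card_le_univ ((orbit K z).toFinset ∪ {a, b})
    rw [Finset.card_union_of_disjoint (hout z hza hzb), Finset.card_pair hab, hcardset,
      h.card_eleven] at h1
    omega
  have hthree : ∀ z : α, z ≠ a → z ≠ b → 3 ∣ Nat.card (orbit K z) := fun z hza hzb => by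
    by_contra h3
    haveI : Fact (Nat.Prime 3) := ⟨Nat.prime_three⟩
    have h9 : 9 ∣ Nat.card (stabilizer K z) := by
      refine Nat.Coprime.dvd_of_dvd_mul_left ?_ (hmul z ▸ (by norm_num : 9 ∣ 72))
      exact Nat.Coprime.pow_left (k := Nat.card (orbit K z)) 2
        ((Nat.Prime.coprime_iff_not_dvd Nat.prime_three).mpr h3)
    obtain ⟨S, hS⟩ := Sylow.exists_subgroup_card_pow_prime (G := stabilizer K z) 3 (n := 2) h9
    let f : stabilizer K z →* Perm α := T.subtype.comp (K.subtype.comp (stabilizer K z).subtype)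
    have hf : Function.Injective f :=
      T.subtype_injective.comp (K.subtype_injective.comp (stabilizer K z).subtype_injective)
    have h3fix := h.no_nine_fixing (T := S.map f) (S := {a, b, z})
      (by rintro _ ⟨s, -, rfl⟩; exact ((s : K) : T).2)
      (by rw [Subgroup.card_map_of_injective hf, hS]; norm_num)
      (by
        rintro _ ⟨s, -, rfl⟩ v hv
        simp only [Finset.mem_insert, Finset.mem_singleton] at hv
        rcases hv with rfl | rfl | rfl
        · exact (hfix (s : K)).1
        · exact (hfix (s : K)).2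
        · exact mem_stabilizer_iff.mp s.2)
    rw [show ({a, b, z} : Finset α).card = 3 by
      rw [Finset.card_insert_of_notMem (by simp [hab, hza.symm]), Finset.card_pair hzb.symm]] at h3fix
    omega
  have hne3 : ∀ z : α, z ≠ a → z ≠ b → Nat.card (orbit K z) ≠ 3 := fun z hza hzb h3 => by
    let φ := toPermHom K (orbit K z)
    have himg : Nat.card φ.range ∣ 6 := by
      refine φ.range.card_subgroup_dvd_card.trans ?_
      rw [Nat.card_perm, h3]
      exact dvd_rfl
    have hker : 2 ∣ Nat.card φ.ker := by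
      have hm := φ.ker.card_mul_index
      rw [Subgroup.index_ker, hK72] at hm
      obtain ⟨c, hc⟩ := himg
      have h12 : 12 ∣ Nat.card φ.ker := ⟨c, Nat.eq_of_mul_eq_mul_right (Nat.card_pos (α := φ.range))
        (by rw [hm, mul_assoc, mul_comm c, ← hc]; rfl)⟩
      exact dvd_trans (by norm_num) h12
    haveI : Fact (Nat.Prime 2) := ⟨Nat.prime_two⟩
    obtain ⟨l, hl⟩ := exists_prime_orderOf_dvd_card' (G := φ.ker) 2 hker
    have hlo : orderOf (((l : K) : T) : Perm α) = 2 := by
      rw [Subgroup.orderOf_coe, Subgroup.orderOf_coe, Subgroup.orderOf_coe, hl]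
    have hsub : (orbit K z).toFinset ∪ {a, b} ⊆ (((l : K) : T) : Perm α).supportᶜ := by
      refine Finset.union_subset (fun v hv => ?_) fun v hv => ?_
      · rw [Set.mem_toFinset] at hv
        rw [Finset.mem_compl, notMem_support]
        exact congrArg Subtype.val (DFunLike.congr_fun (MonoidHom.mem_ker.mp l.2) ⟨v, hv⟩)
      · rw [Finset.mem_compl, notMem_support]
        rcases Finset.mem_insert.mp hv with rfl | hv'
        · exact (hfix (l : K)).1
        · rw [Finset.mem_singleton.mp hv']; exact (hfix (l : K)).2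
    have h1 := Finset.card_le_card hsub
    rw [Finset.card_union_of_disjoint (hout z hza hzb), Finset.card_pair hab, hcardset, h3,
      Finset.card_compl, h.card_eleven] at h1
    rcases h.involution ((l : K) : T).2 hlo with ⟨-, h8⟩ | ⟨hs, -⟩
    · omega
    · rw [mem_alternatingGroup.mp (hTA ((l : K) : T).2)] at hs
      exact absurd hs (by decide)
  obtain ⟨m, hm⟩ := hthree c hca hcb
  have hc9 := hle9 c hca hcb
  have hc3 := hne3 c hca hcb
  have hpos : 0 < Nat.card (orbit K c) := Nat.card_pos_iff.mpr ⟨⟨⟨c, mem_orbit_self c⟩⟩, inferInstance⟩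
  by_contra h9
  -- then the orbit has length six and leaves an orbit of length three
  have h6 : Nat.card (orbit K c) = 6 := by omega
  obtain ⟨d, hd⟩ : (((orbit K c).toFinset ∪ {a, b})ᶜ : Finset α).Nonempty := by
    apply Finset.card_pos.mp
    rw [Finset.card_compl, Finset.card_union_of_disjoint (hout c hca hcb), Finset.card_pair hab,
      hcardset, h6, h.card_eleven]
    norm_num
  simp only [Finset.mem_compl, Finset.mem_union, Finset.mem_insert, Finset.mem_singleton,
    Set.mem_toFinset, not_or] at hd
  obtain ⟨hdc, hda, hdb⟩ := hd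
  have hdd : Disjoint (orbit K d).toFinset ((orbit K c).toFinset ∪ {a, b}) := by
    rw [Finset.disjoint_union_right]
    refine ⟨?_, hout d hda hdb⟩
    rw [Finset.disjoint_left]
    intro v hv hv'
    rw [Set.mem_toFinset] at hv hv'
    apply hdc
    rw [← orbit_eq_iff.mpr hv', orbit_eq_iff.mpr hv]
    exact mem_orbit_self d
  have h1 := Finset.card_le_univ ((orbit K d).toFinset ∪ ((orbit K c).toFinset ∪ {a, b}))
  rw [Finset.card_union_of_disjoint hdd, Finset.card_union_of_disjoint (hout c hca hcb),
    Finset.card_pair hab, hcardset, hcardset, h6, h.card_eleven] at h1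
  obtain ⟨m', hm'⟩ := hthree d hda hdb
  have := hne3 d hda hdb
  have hposd : 0 < Nat.card (orbit K d) := Nat.card_pos_iff.mpr ⟨⟨⟨d, mem_orbit_self d⟩⟩, inferInstance⟩
  omega

include h hTA hcard in
/-- No element of order three fixes three points. -/
theorem no_three_fix {g : T} (hg : orderOf g = 3) {a b c : α} (hab : a ≠ b) (hca : c ≠ a)
    (hcb : c ≠ b) (ha : (g : Perm α) a = a) (hb : (g : Perm α) b = b) :
    (g : Perm α) c ≠ c := by
  classical
  intro hc
  set K := stabilizer T ((a, b) : α × α) with hK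
  have h9 := orbit_card_nine h hTA hcard hab hca hcb
  have hK72 : Nat.card K = 72 := by
    have : Nat.card T = 110 * Nat.card K := card_two_points h.card_eleven T hab
    omega
  have h8 : Nat.card (stabilizer K c) = 8 := by
    have h1 : Nat.card (orbit K c) * Nat.card (stabilizer K c) = 72 := by
      rw [Nat.card_coe_set_eq, ← index_stabilizer, Subgroup.index_mul_card, hK72]
    rw [h9] at h1
    omega
  have hgK : g ∈ K := mem_stabilizer_iff.mpr (Prod.ext ha hb)
  have hgc : (⟨g, hgK⟩ : K) ∈ stabilizer K c := mem_stabilizer_iff.mpr hc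
  have h1 := orderOf_dvd_natCard (⟨⟨g, hgK⟩, hgc⟩ : stabilizer K c)
  rw [Subgroup.orderOf_mk, Subgroup.orderOf_mk, hg, h8] at h1
  omega

include h hTA hcard in
/-- The stabiliser of four points is trivial. -/
theorem sharp (x : Fin 4 ↪ α) : stabilizer T x = ⊥ := by
  classical
  rw [Subgroup.eq_bot_iff_forall]
  intro g hg
  by_contra hg1
  have hx : ∀ i, (g : Perm α) (x i) = x i := fun i =>
    DFunLike.congr_fun (mem_stabilizer_iff.mp hg) i
  set q := (orderOf g).minFac with hq
  have hne1 : orderOf g ≠ 1 := fun h1 => hg1 (orderOf_eq_one_iff.mp h1)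
  have hqp : q.Prime := Nat.minFac_prime hne1
  set u := g ^ (orderOf g / q) with hu
  have huo : orderOf u = q := orderOf_pow_orderOf_div (orderOf_pos g).ne' (Nat.minFac_dvd _)
  have huo' : orderOf (u : Perm α) = q := by rw [Subgroup.orderOf_coe, huo]
  have hux : ∀ i, (u : Perm α) (x i) = x i := fun i => by
    rw [hu, Subgroup.coe_pow]
    exact pow_apply_eq_self_of_apply_eq_self (hx i) _
  have hsub : (Finset.univ.map x) ⊆ (u : Perm α).supportᶜ := by
    intro v hv
    obtain ⟨i, -, rfl⟩ := Finset.mem_map.mp hv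
    exact Finset.mem_compl.mpr (notMem_support.mpr (hux i))
  have h7 : (u : Perm α).support.card ≤ 7 := by
    have h1 := Finset.card_le_card hsub
    rw [Finset.card_map, Finset.card_univ, Fintype.card_fin, Finset.card_compl, h.card_eleven] at h1
    omega
  have hq7920 : q ∣ 2 ^ 4 * 3 ^ 2 * 5 * 11 := by
    rw [show (2 ^ 4 * 3 ^ 2 * 5 * 11 : ℕ) = 7920 by norm_num, ← hcard, ← huo]
    exact orderOf_dvd_natCard u
  have hcases : q = 2 ∨ q = 3 ∨ q = 5 ∨ q = 11 := by
    rcases (Nat.Prime.dvd_mul hqp).mp hq7920 with h1 | h1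
    · rcases (Nat.Prime.dvd_mul hqp).mp h1 with h2 | h2
      · rcases (Nat.Prime.dvd_mul hqp).mp h2 with h3 | h3
        · exact Or.inl ((Nat.prime_dvd_prime_iff_eq hqp Nat.prime_two).mp (hqp.dvd_of_dvd_pow h3))
        · exact Or.inr (Or.inl ((Nat.prime_dvd_prime_iff_eq hqp Nat.prime_three).mp (hqp.dvd_of_dvd_pow h3)))
      · exact Or.inr (Or.inr (Or.inl ((Nat.prime_dvd_prime_iff_eq hqp (by norm_num)).mp h2)))
    · exact Or.inr (Or.inr (Or.inr ((Nat.prime_dvd_prime_iff_eq hqp (by norm_num)).mp h1)))
  rcases hcases with h2 | h3 | h5 | h11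
  · rcases h.involution u.2 (huo'.trans h2) with ⟨-, h8⟩ | ⟨hs, -⟩
    · omega
    · rw [mem_alternatingGroup.mp (hTA u.2)] at hs
      exact absurd hs (by decide)
  · exact no_three_fix h hTA hcard (huo.trans h3) (x.injective.ne (show (0 : Fin 4) ≠ 1 by decide))
      (x.injective.ne (show (2 : Fin 4) ≠ 0 by decide)) (x.injective.ne (show (2 : Fin 4) ≠ 1 by decide))
      (hux 0) (hux 1) (hux 2)
  · have := h.order_five u.2 (huo'.trans h5)
    omega
  · obtain ⟨m, hm, -, hc⟩ := support_card_of_prime (g := (u : Perm α)) (by norm_num) (huo'.trans h11)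
    omega

include h hTA hcard in
/-- The group is four-transitive. -/
theorem four_transitive : IsMultiplyPretransitive T α 4 := by
  classical
  have hall : ∀ x : Fin 4 ↪ α, orbit T x = Set.univ := by
    intro x
    apply Set.eq_of_subset_of_ncard_le (Set.subset_univ _)
    have h1 := MulAction.index_stabilizer (G := T) (x := x)
    rw [sharp h hTA hcard x, Subgroup.index_bot, hcard] at h1
    rw [Set.ncard_univ, Nat.card_eq_fintype_card, Fintype.card_embedding_eq, Fintype.card_fin,
      h.card_eleven]
    exact le_trans (by decide) h1.le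
  refine ⟨fun x y => ?_⟩
  have h1 : y ∈ orbit T x := by rw [hall x]; trivial
  exact h1

include h hTA hcard in
/-- No group of degree eleven not containing the alternating group has `T` as its even part and
odd elements. -/
theorem no_odd {G : Subgroup (Perm α)} (hG : Small G) (hTG : T = G ⊓ alternatingGroup α)
    {g : Perm α} (hgG : g ∈ G) (hgs : Equiv.Perm.sign g = -1) : False := by
  classical
  haveI := four_transitive h hTA hcard
  have heven : ∀ w ∈ G, Equiv.Perm.sign w = 1 → w ∈ T := fun w hw hs => by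
    rw [hTG]; exact ⟨hw, mem_alternatingGroup.mpr hs⟩
  have hTG' : T ≤ G := hTG.le.trans inf_le_left
  have hfree : ∀ (w : Perm α), w ∈ T → ∀ x : Fin 4 ↪ α, (∀ i, w (x i) = x i) → w = 1 := by
    intro w hw x hx
    have : (⟨w, hw⟩ : T) ∈ stabilizer T x := mem_stabilizer_iff.mpr (DFunLike.ext _ _ hx)
    rw [sharp h hTA hcard x, Subgroup.mem_bot] at this
    exact congrArg Subtype.val this
  obtain ⟨x⟩ : Nonempty (Fin 4 ↪ α) :=
    Function.Embedding.nonempty_of_card_le (by rw [Fintype.card_fin, h.card_eleven]; norm_num)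
  obtain ⟨t, ht⟩ := exists_smul_eq T x ⟨fun i => g (x i), g.injective.comp x.injective⟩
  set u : Perm α := (t : Perm α)⁻¹ * g with hu
  have hux : ∀ i, u (x i) = x i := fun i => by
    have h1 : (t : Perm α) (x i) = g (x i) := DFunLike.congr_fun ht i
    rw [hu, Perm.mul_apply, ← h1, Perm.inv_def, Equiv.symm_apply_apply]
  have huG : u ∈ G := mul_mem (inv_mem (hTG' t.2)) hgG
  have hus : Equiv.Perm.sign u = -1 := by
    rw [hu, map_mul, map_inv, mem_alternatingGroup.mp (hTA t.2), hgs, inv_one, one_mul]
  have hu1 : u ≠ 1 := fun h1 => by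
    rw [h1, map_one] at hus; exact absurd hus (by decide)
  have hu2 : u ^ 2 = 1 := hfree _ (heven _ (pow_mem huG 2) (by rw [map_pow, hus]; decide)) x
    fun i => pow_apply_eq_self_of_apply_eq_self (hux i) _
  have huo : orderOf u = 2 := orderOf_eq_prime hu2 hu1
  have h6 : u.support.card = 6 := by
    have hsub : (Finset.univ.map x) ⊆ u.supportᶜ := fun v hv => by
      obtain ⟨i, -, rfl⟩ := Finset.mem_map.mp hv
      exact Finset.mem_compl.mpr (notMem_support.mpr (hux i))
    have h1 := Finset.card_le_card hsub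
    rw [Finset.card_map, Finset.card_univ, Fintype.card_fin, Finset.card_compl, h.card_eleven] at h1
    rcases hG.involution huG huo with ⟨hs, -⟩ | ⟨-, h' | h'⟩
    · rw [hus] at hs; exact absurd hs (by decide)
    · exact h'
    · omega
  have hF : (u.supportᶜ).card = 5 := by rw [Finset.card_compl, h.card_eleven, h6]
  let f := (u.supportᶜ).equivFinOfCardEq hF
  let p : Fin 5 → α := fun i => (f.symm i : α)
  have hp : Function.Injective p := Subtype.val_injective.comp f.symm.injective
  have hup : ∀ i, u (p i) = p i := fun i => notMem_support.mp (Finset.mem_compl.mp (f.symm i).2)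
  have hpsurj : ∀ z, u z = z → ∃ i, p i = z := fun z hz =>
    ⟨f ⟨z, Finset.mem_compl.mpr (notMem_support.mpr hz)⟩, by simp [p]⟩
  obtain ⟨s, hs⟩ := exists_smul_eq T (⟨p ∘ Fin.castSucc, hp.comp (Fin.castSucc_injective 4)⟩ : Fin 4 ↪ α)
    ⟨p ∘ Fin.succ, hp.comp (Fin.succ_injective 4)⟩
  have hsi : ∀ i : Fin 4, (s : Perm α) (p i.castSucc) = p i.succ := fun i => DFunLike.congr_fun hs i
  have hcomm : Commute (s : Perm α) u := by
    have hw : u⁻¹ * ((s : Perm α) * u * (s : Perm α)⁻¹) = 1 := by
      refine hfree _ (heven _ (mul_mem (inv_mem huG) (mul_mem (mul_mem (hTG' s.2) huG)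
        (inv_mem (hTG' s.2)))) (by
          rw [map_mul, map_mul, map_mul, map_inv, map_inv, hus, mem_alternatingGroup.mp (hTA s.2)]
          decide)) ⟨p ∘ Fin.succ, hp.comp (Fin.succ_injective 4)⟩ fun i => ?_
      show (u⁻¹ * ((s : Perm α) * u * (s : Perm α)⁻¹)) (p i.succ) = p i.succ
      rw [Perm.mul_apply, Perm.mul_apply, Perm.mul_apply, Perm.inv_def, Equiv.symm_apply_eq, hup]
      rw [← hsi, Perm.inv_def, Equiv.symm_apply_apply, hup]
    have h1 : (s : Perm α) * u * (s : Perm α)⁻¹ = u := by
      have := mul_eq_one_iff_eq_inv.mp hw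
      exact (inv_injective this).symm
    exact mul_inv_eq_iff_eq_mul.mp h1
  have hlast : (s : Perm α) (p 4) = p 0 := by
    obtain ⟨i, hi⟩ := hpsurj ((s : Perm α) (p 4)) (by
      rw [← Perm.mul_apply, ← hcomm.eq, Perm.mul_apply, hup])
    rcases Fin.eq_zero_or_eq_succ i with rfl | ⟨j, rfl⟩
    · exact hi.symm
    · exfalso
      rw [← hsi] at hi
      have := congrArg Fin.val (hp ((s : Perm α).injective hi))
      rw [Fin.val_castSucc] at this
      have := j.2
      simp at *
      omega
  have hstep : ∀ i : Fin 5, (s : Perm α) (p i) = p (i + 1) := by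
    intro i
    fin_cases i
    · exact hsi 0
    · exact hsi 1
    · exact hsi 2
    · exact hsi 3
    · exact hlast
  have hs5 : (s : Perm α) ^ 5 = 1 :=
    hfree _ (pow_mem s.2 5) ⟨p ∘ Fin.castSucc, hp.comp (Fin.castSucc_injective 4)⟩ fun i => by
      show ((s : Perm α) ^ 5) (p i.castSucc) = p i.castSucc
      simp only [pow_succ, pow_zero, one_mul, Perm.mul_apply, hstep]
      congr 1
      revert i
      decide
  have hs1 : (s : Perm α) ≠ 1 := fun h1 => by
    have := hstep 0
    rw [h1, Perm.one_apply] at this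
    exact absurd (hp this) (by decide)
  haveI : Fact (Nat.Prime 5) := ⟨by norm_num⟩
  have h10 := h.order_five s.2 (orderOf_eq_prime hs5 hs1)
  obtain ⟨w, hw⟩ := Finset.card_eq_one.mp (show ((s : Perm α).supportᶜ).card = 1 by
    rw [Finset.card_compl, h.card_eleven, h10])
  have hsw : (s : Perm α) w = w := notMem_support.mp (Finset.mem_compl.mp (hw ▸ Finset.mem_singleton_self w))
  have huw : u w = w := by
    have h1 : u w ∈ (s : Perm α).supportᶜ := Finset.mem_compl.mpr (notMem_support.mpr (by
      rw [← Perm.mul_apply, hcomm.eq, Perm.mul_apply, hsw]))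
    rwa [hw, Finset.mem_singleton] at h1
  obtain ⟨i, rfl⟩ := hpsurj w huw
  rw [hstep i] at hsw
  exact absurd (hp hsw) ((show ∀ j : Fin 5, j + 1 ≠ j by decide) i)

end Cfsg.Agent.H79.DegreeEleven
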